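import Groth.Agent.Lib.CBExt28.Main
import Groth.Agent.Lib.K3Ext28.Saturate
import Groth.Agent.Lib.DecSh20.Parabolic
import Groth.Agent.Lib.SerrePn27.Twist
import Groth.Agent.Lib.Algz56.Embedding
import Groth.Agent.Lib.CurveMult.GGCurve

/-!
# Twists of an embedded surface: numerical invariants and monomorphisms between them
-/

set_option autoImplicit false
set_option maxHeartbeats 1600000
set_option linter.style.haveILetI false
set_option linter.unusedSectionVars false
set_option backward.isDefEq.respectTransparency false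

universe u

open CategoryTheory CategoryTheory.Limits AlgebraicGeometry TopologicalSpace Polynomial
open GrothLib.Snapper (DimLT)
open GrothLib.SerrePn27 (Oi)
open StabCat (alpha)

noncomputable section

namespace GrothLib.MuSt28

variable {k : Type u} [Field k] {X : Scheme.{u}} [X.Over (Spec (CommRingCat.of k))]
  [IsProper (X ↘ Spec (CommRingCat.of k))] [IsIntegral X] [Smooth (X ↘ Spec (CommRingCat.of k))] {N : ℕ} (ι : X ⟶ CohB1.ProjSpace N k)

attribute [local irreducible] Curv2.euler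

/-- The invariants of the twists. -/
theorem alpha_Oi (hdim : topologicalKrullDim X = ((2 : ℕ) : WithBot ℕ∞)) (hL : CohB1.IsAmple (Oi ι 1))
    {G : X.Modules} (n : ℤ) (e : G ≅ Oi ι n)
    {pG pO : ℚ[X]} (hpG : ShStab.IsHilbPoly k X (Oi ι 1) G pG)
    (hpO : ShStab.IsHilbPoly k X (Oi ι 1) (Coh.structureModule X) pO) :
    alpha 2 pG = alpha 2 pO ∧ alpha 1 pG = alpha 1 pO + (n : ℚ) * alpha 2 pO := by
  haveI := Euler.isNoetherian_of_proper (X := X) k
  have hu : DimLT (Set.univ : Set X) 3 := Kleiman.dimLT_univ hdim.le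
  have hLi := SerrePn27.isInvertible_Oi ι 1
  have hdeg : ∀ {E : X.Modules} {P : ℚ[X]}, Coh.IsCoh E → ShStab.IsHilbPoly k X (Oi ι 1) E P → P.degree < (3 : ℕ) :=
    fun hE hP => Hilb20.degree_lt_of_dimLT hLi hE (hu.mono (Set.subset_univ _)) hP
  have hGc : Coh.IsCoh G := QCoh.isCoh_of_iso e.symm (Euler.isCoh_of_isInvertible (SerrePn27.isInvertible_Oi ι n))
  rcases n with j | j
  · obtain ⟨f⟩ := SerrePn27.nonempty_Oi_tensorPow ι j
    have hp := Hilb20.isHilbPoly_congr (OX.tensorUnitLeftIso (CohB1.tensorPow (Oi ι 1) j) ≪≫ f ≪≫ e.symm)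
      (DecSh20.isHilbPoly_twist hpO j)
    obtain ⟨a2, a1⟩ := DecSh20.alpha_comp_shift (hdeg (Kleiman.isCoh_O k) hpO) (j : ℚ)
    rw [Hilb20.isHilbPoly_unique hpG hp]
    exact ⟨a2, by rw [a1]; simp⟩
  · obtain ⟨f⟩ := SerrePn27.nonempty_Oi_tensorPow ι (j + 1)
    obtain ⟨g⟩ := SerrePn27.nonempty_Oi_add ι (a := Int.negSucc j) (b := ((j + 1 : ℕ) : ℤ)) (c := 0)
      (by rw [Int.negSucc_eq]; push_cast; ring)
    obtain ⟨z⟩ := SerrePn27.nonempty_Oi_zero ι
    have hp := Hilb20.isHilbPoly_congr (Ample.LineData.tensorModMapIso e f ≪≫ g ≪≫ z)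
      (DecSh20.isHilbPoly_twist hpG (j + 1))
    obtain ⟨a2, a1⟩ := DecSh20.alpha_comp_shift (hdeg hGc hpG) ((j + 1 : ℕ) : ℚ)
    rw [← Hilb20.isHilbPoly_unique hpO hp] at a1 a2
    refine ⟨a2.symm, ?_⟩
    rw [a1, a2, Int.cast_negSucc]
    push_cast
    ring

include k in
/-- Nonzero maps between successive twists. -/
theorem exists_mono_Oi (hdim : topologicalKrullDim X = ((2 : ℕ) : WithBot ℕ∞)) :
    ∀ (j : ℕ) (a b : ℤ), a + j = b → ∃ u : Oi ι a ⟶ Oi ι b, Mono u := by
  haveI := Euler.isNoetherian_of_proper (X := X) k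
  intro j
  induction j with
  | zero => intro a b h; obtain rfl : a = b := by simpa using h
            exact ⟨𝟙 _, inferInstance⟩
  | succ j ih =>
    intro a b h
    obtain ⟨u, hu⟩ := ih a (b - 1) (by push_cast at h; linarith)
    -- a nonzero section of `O(1)`
    obtain ⟨i, hi⟩ : ∃ i, FinCov.homOfSection (Ample.ProjMap.pullCoord ι i) ≠ 0 := by
      by_contra hall
      push Not at hall
      have hzero : ∀ i, (Oi ι 1).presheaf.germ ⊤ (genericPoint X) trivial (Ample.ProjMap.pullCoord ι i) = 0 := fun i => by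
        have h1 := congrArg (fun g : Coh.structureModule X ⟶ Oi ι 1 => g.app ⊤ (FinCov.one X ⊤)) (hall i)
        dsimp only at h1
        rw [FinCov.homOfSection_one] at h1
        rw [← InvExt.mres_self (Oi ι 1) (Ample.ProjMap.pullCoord ι i)]
        exact (congrArg ((Oi ι 1).presheaf.germ ⊤ (genericPoint X) trivial) h1).trans (map_zero _)
      obtain ⟨t, ht⟩ := Ref1.exists_gen_of_isInvertible (SerrePn27.isInvertible_Oi ι 1) (genericPoint X)
      have hbot : t ∈ (⊥ : Submodule (X.presheaf.stalk (genericPoint X)) _) :=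
        Submodule.span_le.2 (by rintro _ ⟨i, rfl⟩; exact hzero i)
          ((Algz56.generatedBy_pullCoord ι (genericPoint X)).ge (Submodule.mem_top (x := t)))
      rw [Submodule.mem_bot] at hbot
      subst hbot
      exact zero_ne_one (ht.1 (a₁ := (0 : X.presheaf.stalk (genericPoint X))) (a₂ := 1) ((smul_zero _).trans (smul_zero _).symm))
    let s : Coh.structureModule X ⟶ Oi ι 1 := FinCov.homOfSection (Ample.ProjMap.pullCoord ι i)
    haveI hs : Mono s := by
      exact K3Ext28.mono_of_ne_zero (k := k) (Hilb20.isNormalScheme_of_smooth (X := X) k) hdim Euler.isInvertible_structure (Euler.isCoh_of_isInvertible (SerrePn27.isInvertible_Oi ι 1)) (DecSh20.isTorsionFree_of_locFree (Euler.isFinLocFreeOfRank_one' (SerrePn27.isInvertible_Oi ι 1))) s hi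
    have hinv := SerrePn27.isInvertible_Oi ι (b - 1)
    haveI := CBExt28.isEquivalence_Tw hinv
    haveI : Mono ((CBExt28.Tw (Oi ι (b - 1))).map s) := inferInstance
    obtain ⟨g⟩ := SerrePn27.nonempty_Oi_add ι (a := b - 1) (b := 1) (c := b) (by ring)
    haveI := hu
    let T := CBExt28.Tw (Oi ι (b - 1))
    let w : (CBExt28.Tw (Oi ι (b - 1))).obj (Oi ι 1) ≅ Oi ι b := g
    let m₁ : Oi ι (b - 1) ⟶ T.obj (Coh.structureModule X) := (SecTwist.unitorR (Oi ι (b - 1))).inv
    have h1 : Mono m₁ := inferInstance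
    haveI : Mono w.hom := inferInstance
    haveI : Mono (m₁ ≫ (CBExt28.Tw (Oi ι (b - 1))).map s) := mono_comp _ _
    haveI : Mono ((m₁ ≫ (CBExt28.Tw (Oi ι (b - 1))).map s) ≫ w.hom) := mono_comp _ _
    exact ⟨u ≫ (m₁ ≫ (CBExt28.Tw (Oi ι (b - 1))).map s) ≫ w.hom, mono_comp _ _⟩

end GrothLib.MuSt28
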